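import Mathlib

/-!
# Degree bound for perturbing a coordinate by a power
-/

universe u

open Polynomial

set_option linter.style.haveILetI false

namespace Groth.FlatMor2.PowerPerturb

theorem natDegree_le_of_monic {k : Type u} [CommRing k] [IsDomain k] (Φ : Polynomial (Polynomial k))
    (hΦ : Φ.Monic) (B : ℕ) (hB : ∀ j, (Φ.coeff j).natDegree ≤ B) (q : Polynomial k)
    (h : Φ.eval q = 0) : q.natDegree ≤ B := by
  by_contra! hlt
  have hq : q ≠ 0 := fun h0 => by simp [h0] at hlt
  rw [Polynomial.eval_eq_sum_range, Finset.sum_range_succ, hΦ.coeff_natDegree, one_mul] at h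
  by_cases hN : Φ.natDegree = 0
  · rw [hN] at h
    simp at h
  have hdeg : (∑ j ∈ Finset.range Φ.natDegree, Φ.coeff j * q ^ j).natDegree <
      (q ^ Φ.natDegree).natDegree := by
    refine lt_of_le_of_lt (Polynomial.natDegree_sum_le_of_forall_le _ _
      (n := B + (Φ.natDegree - 1) * q.natDegree) fun j hj => ?_) ?_
    · refine Polynomial.natDegree_mul_le.trans (add_le_add (hB j) ?_)
      rw [Polynomial.natDegree_pow]
      exact Nat.mul_le_mul_right _ (by have := Finset.mem_range.1 hj; omega)
    · rw [Polynomial.natDegree_pow]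
      obtain ⟨N, hN'⟩ := Nat.exists_eq_succ_of_ne_zero hN
      rw [hN', Nat.succ_sub_one, Nat.succ_mul]
      omega
  have := congrArg Polynomial.natDegree h
  rw [Polynomial.natDegree_add_eq_right_of_natDegree_lt hdeg, Polynomial.natDegree_zero,
    Polynomial.natDegree_pow] at this
  rcases mul_eq_zero.1 this with h1 | h1
  · exact hN h1
  · omega

/-- If `α` is algebraically independent, `α₀ ^ n + β` is algebraic and a nonzero multiple of `β` is
integral with degree bound `B`, then `n ≤ B`. -/
theorem exponent_le {R D L : Type u} [CommRing R] [CommRing D] [IsDomain D] [Field L] [Algebra D L]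
    (g : R →+* D) {s : ℕ} (α : Fin (s + 1) → L) (hα : AlgebraicIndependent D α) (n : ℕ) (β : L)
    (hc : IsAlgebraic D (α 0 ^ n + β)) (Φ : Polynomial (MvPolynomial (Fin (s + 1)) R)) (hΦ : Φ.Monic)
    (B : ℕ) (hB : ∀ j, (MvPolynomial.finSuccEquiv R s (Φ.coeff j)).natDegree ≤ B)
    (γ : MvPolynomial (Fin (s + 1)) R) (hγ : MvPolynomial.eval₂Hom ((algebraMap D L).comp g) α γ ≠ 0)
    (hroot : Φ.eval₂ (MvPolynomial.eval₂Hom ((algebraMap D L).comp g) α)
      (MvPolynomial.eval₂Hom ((algebraMap D L).comp g) α γ * β) = 0) :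
    n ≤ B := by
  rcases Nat.eq_zero_or_pos n with rfl | hn
  · exact Nat.zero_le B
  let k := Subalgebra.algebraicClosure D L
  let θ : R →+* k := (algebraMap D k).comp g
  let ev : MvPolynomial (Fin (s + 1)) k →+* L := (MvPolynomial.aeval α).toRingHom
  have hev : Function.Injective ev :=
    algebraicIndependent_iff_injective_aeval.1 hα.subalgebraAlgebraicClosure
  have hevθ : ev.comp (MvPolynomial.map θ) = MvPolynomial.eval₂Hom ((algebraMap D L).comp g) α := by
    refine MvPolynomial.ringHom_ext (fun a => ?_) fun i => ?_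
    · show MvPolynomial.aeval α (MvPolynomial.map θ (MvPolynomial.C a)) = _
      rw [MvPolynomial.map_C, MvPolynomial.aeval_C, MvPolynomial.eval₂Hom_C]
      rfl
    · show MvPolynomial.aeval α (MvPolynomial.map θ (MvPolynomial.X i)) = _
      rw [MvPolynomial.map_X, MvPolynomial.aeval_X, MvPolynomial.eval₂Hom_X']
  let c : k := ⟨α 0 ^ n + β, hc⟩
  let γ' := MvPolynomial.map θ γ
  have hγ' : γ' ≠ 0 := fun h0 => hγ (by
    rw [← hevθ]
    show ev γ' = 0
    rw [h0, map_zero])
  let q : MvPolynomial (Fin (s + 1)) k := γ' * (MvPolynomial.C c - MvPolynomial.X 0 ^ n)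
  have hq : ev q = MvPolynomial.eval₂Hom ((algebraMap D L).comp g) α γ * β := by
    show ev (γ' * _) = _
    rw [map_mul, ← hevθ]
    congr 1
    show MvPolynomial.aeval α (MvPolynomial.C c - MvPolynomial.X 0 ^ n) = β
    rw [map_sub, MvPolynomial.aeval_C, map_pow, MvPolynomial.aeval_X]
    show α 0 ^ n + β - α 0 ^ n = β
    ring
  have hzero : (Φ.map (MvPolynomial.map θ)).eval q = 0 := by
    refine hev ?_
    rw [map_zero, Polynomial.eval_map, Polynomial.hom_eval₂, hevθ, hq]
    exact hroot
  let e := MvPolynomial.finSuccEquiv k s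
  have hzero' : ((Φ.map (MvPolynomial.map θ)).map e.toRingEquiv.toRingHom).eval (e q) = 0 := by
    rw [show e q = e.toRingEquiv.toRingHom q from rfl, Polynomial.eval_map, Polynomial.eval₂_hom, hzero,
      map_zero]
  have hbound : ∀ j, (((Φ.map (MvPolynomial.map θ)).map e.toRingEquiv.toRingHom).coeff j).natDegree ≤ B := by
    intro j
    rw [Polynomial.coeff_map, Polynomial.coeff_map]
    have hcomm : (e.toRingEquiv.toRingHom).comp (MvPolynomial.map θ) =
        (Polynomial.mapRingHom (MvPolynomial.map θ)).comp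
          (MvPolynomial.finSuccEquiv R s).toRingEquiv.toRingHom := by
      refine MvPolynomial.ringHom_ext (fun a => ?_) fun i => ?_
      · simp [e, MvPolynomial.finSuccEquiv_apply]
      · induction i using Fin.cases <;> simp [e, MvPolynomial.finSuccEquiv_apply]
    have : e (MvPolynomial.map θ (Φ.coeff j)) =
        (MvPolynomial.finSuccEquiv R s (Φ.coeff j)).map (MvPolynomial.map θ) :=
      DFunLike.congr_fun hcomm (Φ.coeff j)
    show (e (MvPolynomial.map θ (Φ.coeff j))).natDegree ≤ B
    rw [this]
    exact Polynomial.natDegree_map_le.trans (hB j)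
  have hle := natDegree_le_of_monic _ ((hΦ.map _).map _) B hbound _ hzero'
  refine le_trans ?_ hle
  have h1 : e (MvPolynomial.C c - MvPolynomial.X 0 ^ n) =
      -(Polynomial.X ^ n - Polynomial.C (MvPolynomial.C c)) := by
    simp only [e, map_sub, map_pow, MvPolynomial.finSuccEquiv_apply, MvPolynomial.eval₂Hom_C,
      MvPolynomial.eval₂Hom_X', Fin.cases_zero, RingHom.comp_apply]
    exact (neg_sub _ _).symm
  show n ≤ (e (γ' * _)).natDegree
  rw [map_mul, h1, Polynomial.natDegree_mul, Polynomial.natDegree_neg, Polynomial.natDegree_X_pow_sub_C]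
  · exact Nat.le_add_left _ _
  · exact (map_ne_zero_iff e e.injective).2 hγ'
  · exact fun h0 => Polynomial.X_pow_sub_C_ne_zero hn _ (neg_eq_zero.1 h0)

end Groth.FlatMor2.PowerPerturb
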