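import Groth.Agent.FlatMor2.PowerPerturb.Degree
import Groth.Agent.FlatMor2.TrdegFibre
import Groth.Agent.FibreDim.Algebra

/-!
# Fibre dimension bounds are stable under `a ↦ a ^ n + b`, `n ≫ 0`
-/

universe u

open Polynomial

set_option linter.style.haveILetI false
set_option synthInstance.maxHeartbeats 400000

namespace Groth.FlatMor2.PowerPerturb

variable {R S : Type u} [CommRing R] [CommRing S] [Algebra R S] [Algebra.FiniteType R S]

/-- `S` is quasi-finite at `q` over `R[x]`. -/
abbrev QFAt {s : ℕ} (x : Fin (s + 1) → S) (q : PrimeSpectrum S) : Prop :=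
  letI := (MvPolynomial.aeval (R := R) x).toRingHom.toAlgebra
  Algebra.QuasiFiniteAt (MvPolynomial (Fin (s + 1)) R) q.asIdeal

/-- Along the fibre bound, `S` is quasi-finite over `R[a, y]` with at most `d` variables `y`. -/
theorem exists_quasiFiniteAt (d : ℕ) (a : S)
    (ha : ∀ P : PrimeSpectrum R[X], letI := (Polynomial.aeval (R := R) a).toRingHom.toAlgebra
      ringKrullDim (P.asIdeal.Fiber S) ≤ d) (q : PrimeSpectrum S) :
    ∃ (s : ℕ) (x : Fin (s + 1) → S), s ≤ d ∧ x 0 = a ∧
      (QFAt (R := R) x q) := by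
  letI algX : Algebra R[X] S := (Polynomial.aeval (R := R) a).toRingHom.toAlgebra
  haveI : IsScalarTower R R[X] S :=
    IsScalarTower.of_algebraMap_eq fun r => ((Polynomial.aeval a).commutes r).symm
  haveI : Algebra.FiniteType R[X] S := .of_restrictScalars_finiteType R _ _
  let P := q.comap (algebraMap R[X] S)
  haveI : Nontrivial (P.asIdeal.Fiber S) := by
    let Q := PrimeSpectrum.preimageEquivFiber R[X] S P ⟨q, rfl⟩
    exact ⟨⟨0, 1, fun h => Q.2.ne_top ((Ideal.eq_top_iff_one _).2 (h ▸ Q.asIdeal.zero_mem))⟩⟩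
  obtain ⟨s, b, hs, hb⟩ := Groth.FibreDim.exists_quasiFiniteAt_fibre (B := S) P d (ha P)
  let x : Fin (s + 1) → S := Fin.cases a b
  refine ⟨s, x, hs, rfl, ?_⟩
  letI : Algebra (MvPolynomial (Fin s) R[X]) S := (MvPolynomial.aeval (R := R[X]) b).toRingHom.toAlgebra
  haveI : Algebra.QuasiFiniteAt (MvPolynomial (Fin s) R[X]) q.asIdeal := hb q rfl
  let φ : MvPolynomial (Fin (s + 1)) R →ₐ[R] MvPolynomial (Fin s) R[X] :=
    MvPolynomial.aeval (Fin.cases (MvPolynomial.C Polynomial.X) fun i => MvPolynomial.X i)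
  have hφ : Function.Surjective φ := by
    intro f
    suffices f ∈ φ.range from this
    induction f using MvPolynomial.induction_on with
    | C p =>
      induction p using Polynomial.induction_on with
      | C r =>
        exact ⟨MvPolynomial.C r, (MvPolynomial.aeval_C _ r).trans (IsScalarTower.algebraMap_apply R R[X] _ r)⟩
      | add p p' hp hp' => rw [map_add]; exact φ.range.add_mem hp hp'
      | monomial n r h =>
        rw [pow_succ, ← mul_assoc, map_mul]
        refine φ.range.mul_mem h ⟨MvPolynomial.X 0, ?_⟩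
        show MvPolynomial.aeval _ (MvPolynomial.X 0) = _
        rw [MvPolynomial.aeval_X]
        rfl
    | add p p' hp hp' => exact φ.range.add_mem hp hp'
    | mul_X p i hp =>
      refine φ.range.mul_mem hp ⟨MvPolynomial.X i.succ, ?_⟩
      show MvPolynomial.aeval _ (MvPolynomial.X i.succ) = _
      rw [MvPolynomial.aeval_X]
      rfl
  letI : Algebra (MvPolynomial (Fin (s + 1)) R) (MvPolynomial (Fin s) R[X]) := φ.toRingHom.toAlgebra
  letI : Algebra (MvPolynomial (Fin (s + 1)) R) S := (MvPolynomial.aeval (R := R) x).toRingHom.toAlgebra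
  haveI : IsScalarTower (MvPolynomial (Fin (s + 1)) R) (MvPolynomial (Fin s) R[X]) S := by
    refine IsScalarTower.of_algebraMap_eq' (MvPolynomial.ringHom_ext (fun r => ?_) fun i => ?_)
    · show MvPolynomial.aeval x (MvPolynomial.C r) = MvPolynomial.aeval b (φ (MvPolynomial.C r))
      rw [MvPolynomial.aeval_C, show φ (MvPolynomial.C r) = MvPolynomial.C (Polynomial.C r) from
        (MvPolynomial.aeval_C _ r).trans (IsScalarTower.algebraMap_apply R R[X] _ r), MvPolynomial.aeval_C]
      exact (Polynomial.aeval_C a r).symm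
    · show MvPolynomial.aeval x (MvPolynomial.X i) = MvPolynomial.aeval b (φ (MvPolynomial.X i))
      induction i using Fin.cases with
      | zero =>
        simp only [φ, x, MvPolynomial.aeval_X, Fin.cases_zero, MvPolynomial.aeval_C]
        exact (Polynomial.aeval_X a).symm
      | succ i => simp [φ, x]
  haveI : Module.Finite (MvPolynomial (Fin (s + 1)) R) (MvPolynomial (Fin s) R[X]) :=
    Module.Finite.of_surjective (Algebra.linearMap _ _) hφ
  haveI : IsScalarTower (MvPolynomial (Fin (s + 1)) R) (MvPolynomial (Fin s) R[X])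
      (Localization.AtPrime q.asIdeal) := inferInstance
  exact Algebra.QuasiFinite.trans (MvPolynomial (Fin (s + 1)) R) (MvPolynomial (Fin s) R[X])
    (Localization.AtPrime q.asIdeal)

theorem exists_fractionField (A : Type u) [CommRing A] [IsDomain A] :
    ∃ (L : Type u) (_ : Field L) (e : A →+* L), Function.Injective e ∧ ∀ z, ∃ u v, z = e u / e v :=
  ⟨FractionRing A, inferInstance, algebraMap A (FractionRing A), IsFractionRing.injective A _, fun z =>
    let ⟨u, v, _, h⟩ := IsFractionRing.div_surjective A z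
    ⟨u, v, h.symm⟩⟩

/-- What a bad exponent looks like: a point of a fibre with residual transcendence degree `d + 1` on
which `a, y` are a transcendence basis and `a ^ n + b` is algebraic. -/
theorem exists_bad (d : ℕ) (a b : S)
    (ha : ∀ P : PrimeSpectrum R[X], letI := (Polynomial.aeval (R := R) a).toRingHom.toAlgebra
      ringKrullDim (P.asIdeal.Fiber S) ≤ d) (n : ℕ) (P : PrimeSpectrum R[X])
    (h : letI := (Polynomial.aeval (R := R) (a ^ n + b)).toRingHom.toAlgebra
      ¬ ringKrullDim (P.asIdeal.Fiber S) ≤ d) :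
    ∃ (L : Type u) (_ : Field L) (D : Type u) (_ : CommRing D) (_ : IsDomain D) (_ : Algebra D L)
      (g : R →+* D) (ψ : S →+* L) (Q : PrimeSpectrum S),
      (∀ r, ψ (algebraMap R S r) = algebraMap D L (g r)) ∧ RingHom.ker ψ = Q.asIdeal ∧
      IsAlgebraic D (ψ a ^ n + ψ b) ∧
      ∀ (s : ℕ) (x : Fin (s + 1) → S), s ≤ d →
        (QFAt (R := R) x Q) →
        AlgebraicIndependent D fun i => ψ (x i) := by
  letI : Algebra R[X] S := (Polynomial.aeval (R := R) (a ^ n + b)).toRingHom.toAlgebra
  haveI : IsScalarTower R R[X] S :=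
    IsScalarTower.of_algebraMap_eq fun r => ((Polynomial.aeval (a ^ n + b)).commutes r).symm
  let F := P.asIdeal.Fiber S
  let κ := P.asIdeal.ResidueField
  have h' : ¬ Order.krullDim (PrimeSpectrum F) ≤ (d : WithBot ℕ∞) := h
  obtain ⟨l, hl⟩ : ∃ l : LTSeries (PrimeSpectrum F), d + 1 ≤ l.length := by
    by_contra hcon
    push Not at hcon
    refine h' ?_
    exact iSup_le fun l => by exact_mod_cast Nat.lt_succ_iff.1 (hcon l)
  let T := l.head.asIdeal
  have htr : ((d + 1 : ℕ) : Cardinal.{u}) ≤ Algebra.trdeg κ (F ⧸ T) :=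
    le_trans (le_trans (Nat.cast_le.2 hl) le_add_self)
      (le_trans (Groth.FlatMor2.TrdegFibre.trdeg_quotient_add_length_le (k := κ) l) le_rfl)
  obtain ⟨L, _, e, he, hfr⟩ := exists_fractionField (F ⧸ T)
  let eF : F →+* L := e.comp (Ideal.Quotient.mk T)
  letI : Algebra κ L := (eF.comp (algebraMap κ F)).toAlgebra
  let ι : S →+* F := Algebra.TensorProduct.includeRight.toRingHom
  let ψ : S →+* L := eF.comp ι
  let p : Ideal R := P.asIdeal.comap (algebraMap R R[X])
  let D := R ⧸ p
  let D₁ := R[X] ⧸ P.asIdeal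
  letI : Algebra D D₁ := (Ideal.quotientMap P.asIdeal (algebraMap R R[X]) le_rfl).toAlgebra
  letI : Algebra D₁ L := ((algebraMap κ L).comp (algebraMap D₁ κ)).toAlgebra
  haveI : IsScalarTower D₁ κ L := IsScalarTower.of_algebraMap_eq fun _ => rfl
  letI : Algebra D L := ((algebraMap D₁ L).comp (algebraMap D D₁)).toAlgebra
  haveI : IsScalarTower D D₁ L := IsScalarTower.of_algebraMap_eq fun _ => rfl
  haveI : FaithfulSMul D D₁ := (faithfulSMul_iff_algebraMap_injective _ _).2
    (Ideal.quotientMap_injective' le_rfl)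
  haveI : FaithfulSMul D₁ κ := (faithfulSMul_iff_algebraMap_injective _ _).2
    (IsFractionRing.injective D₁ κ)
  haveI : FaithfulSMul κ L := (faithfulSMul_iff_algebraMap_injective _ _).2 (algebraMap κ L).injective
  haveI : FaithfulSMul D₁ L := (faithfulSMul_iff_algebraMap_injective _ _).2 <| by
    rw [IsScalarTower.algebraMap_eq D₁ κ L]
    exact (algebraMap κ L).injective.comp (IsFractionRing.injective D₁ κ)
  haveI : FaithfulSMul D L := (faithfulSMul_iff_algebraMap_injective _ _).2 <| by
    rw [IsScalarTower.algebraMap_eq D D₁ L]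
    exact (FaithfulSMul.algebraMap_injective D₁ L).comp (FaithfulSMul.algebraMap_injective D D₁)
  have hX : ∀ f : R[X], ψ (algebraMap R[X] S f) = algebraMap D₁ L (Ideal.Quotient.mk _ f) := by
    intro f
    rw [IsScalarTower.algebraMap_apply D₁ κ L]
    show eF (ι (algebraMap R[X] S f)) = eF (algebraMap κ F (algebraMap D₁ κ (Ideal.Quotient.mk _ f)))
    rw [show ι (algebraMap R[X] S f) = algebraMap R[X] F f from
      (Algebra.TensorProduct.includeRight (R := R[X]) (A := κ) (B := S)).commutes f,
      IsScalarTower.algebraMap_apply R[X] κ F]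
    rfl
  let Q : PrimeSpectrum S := ⟨RingHom.ker ψ, RingHom.ker_isPrime ψ⟩
  haveI : Q.asIdeal.IsPrime := Q.isPrime
  have hR : ∀ r, ψ (algebraMap R S r) = algebraMap D L (Ideal.Quotient.mk p r) := fun r => by
    rw [IsScalarTower.algebraMap_apply R R[X] S, hX]
    rfl
  -- the transcendence degree over `D₁` is at least `d + 1`
  have htr₁ : ((d + 1 : ℕ) : Cardinal.{u}) ≤ Algebra.trdeg D₁ L := by
    haveI : Algebra.IsAlgebraic D₁ κ := IsLocalization.isAlgebraic κ (nonZeroDivisors D₁)
    have h0 := trdeg_add_eq D₁ κ (A := L)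
    rw [trdeg_eq_zero, zero_add] at h0
    rw [← h0]
    exact htr.trans (trdeg_le_of_injective (⟨e, fun c => rfl⟩ : (F ⧸ T) →ₐ[κ] L) he)
  have hadd := trdeg_add_eq D D₁ (A := L)
  have key : ∀ (s : ℕ) (x : Fin (s + 1) → S), s ≤ d →
      (QFAt (R := R) x Q) →
      Algebra.trdeg D L ≤ (d + 1 : ℕ) ∧ AlgebraicIndependent D fun i => ψ (x i) := by
    intro s x hsd hqf
    letI := (MvPolynomial.aeval (R := R) x).toRingHom.toAlgebra
    haveI := hqf
    letI : Algebra R L := ((algebraMap D L).comp (Ideal.Quotient.mk p)).toAlgebra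
    haveI : IsScalarTower R D L := IsScalarTower.of_algebraMap_eq fun _ => rfl
    let y : Fin (s + 1) → L := fun i => ψ (x i)
    have hcomp : ∀ f : MvPolynomial (Fin (s + 1)) R, ψ (MvPolynomial.aeval x f) = MvPolynomial.aeval y f := by
      intro f
      rw [MvPolynomial.aeval_def, MvPolynomial.aeval_def, MvPolynomial.eval₂_comp_left ψ]
      congr 1
      exact RingHom.ext hR
    let Lq := Q.asIdeal.ResidueField
    let Θ : Lq →+* L := Ideal.ResidueField.lift Q.asIdeal ψ le_rfl fun c hc =>
      isUnit_iff_ne_zero.2 hc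
    have hΘ : ∀ c, Θ (algebraMap S Lq c) = ψ c := fun c => Ideal.ResidueField.lift_algebraMap _ ψ _ _ c
    have hΘs : Function.Surjective Θ := by
      intro z
      obtain ⟨u, v, rfl⟩ := hfr z
      have hS : ∀ u : F ⧸ T, e u ∈ Θ.range := by
        intro u
        obtain ⟨u, rfl⟩ := Ideal.Quotient.mk_surjective u
        obtain ⟨r, hr, c, hc⟩ := Ideal.Fiber.exists_smul_eq_one_tmul P.asIdeal u
        have hr0 : algebraMap R[X] F r ∉ T := fun hr' => by
          have h1 := hr'
          rw [IsScalarTower.algebraMap_apply R[X] κ F] at h1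
          exact l.head.2.ne_top (Ideal.eq_top_of_isUnit_mem _ h1
            ((isUnit_iff_ne_zero.2 fun h0 => hr (Ideal.algebraMap_residueField_eq_zero.1 h0)).map _))
        have hψr : ψ (algebraMap R[X] S r) ≠ 0 := by
          intro h0
          refine hr0 (Ideal.Quotient.eq_zero_iff_mem.1 (he ?_))
          rw [map_zero, ← h0]
          show _ = eF (ι (algebraMap R[X] S r))
          rw [show ι (algebraMap R[X] S r) = algebraMap R[X] F r from
            (Algebra.TensorProduct.includeRight (R := R[X]) (A := κ) (B := S)).commutes r]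
          rfl
        refine ⟨algebraMap S Lq c / algebraMap S Lq (algebraMap R[X] S r), ?_⟩
        rw [map_div₀, hΘ, hΘ, div_eq_iff hψr]
        show eF (ι c) = eF u * eF (ι (algebraMap R[X] S r))
        rw [← map_mul, show ι c = r • u from hc.symm, Algebra.smul_def, mul_comm,
          show ι (algebraMap R[X] S r) = algebraMap R[X] F r from
            (Algebra.TensorProduct.includeRight (R := R[X]) (A := κ) (B := S)).commutes r]
      obtain ⟨u', hu'⟩ := hS u
      obtain ⟨v', hv'⟩ := hS v
      exact ⟨u' / v', by rw [map_div₀, hu', hv']⟩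
    letI : Algebra (MvPolynomial (Fin (s + 1)) R) L := (MvPolynomial.aeval (R := R) y).toRingHom.toAlgebra
    let Θ' : Lq →ₐ[MvPolynomial (Fin (s + 1)) R] L := ⟨Θ, fun f => by
      show Θ (algebraMap (MvPolynomial (Fin (s + 1)) R) Lq f) = MvPolynomial.aeval y f
      rw [IsScalarTower.algebraMap_apply (MvPolynomial (Fin (s + 1)) R) S Lq, hΘ, ← hcomp]
      rfl⟩
    haveI : Algebra.QuasiFinite (MvPolynomial (Fin (s + 1)) R) Lq := by
      haveI : Algebra.QuasiFinite (MvPolynomial (Fin (s + 1)) R) (Localization.AtPrime Q.asIdeal) := hqf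
      exact inferInstanceAs (Algebra.QuasiFinite (MvPolynomial (Fin (s + 1)) R)
        ((Localization.AtPrime Q.asIdeal) ⧸ IsLocalRing.maximalIdeal (Localization.AtPrime Q.asIdeal)))
    haveI hqL : Algebra.QuasiFinite (MvPolynomial (Fin (s + 1)) R) L :=
      Algebra.QuasiFinite.of_surjective_algHom Θ' hΘs
    let y' : ULift.{u} (Fin (s + 1)) → L := fun i => y i.down
    haveI halg₀ := Groth.FlatMor2.TrdegFibre.isAlgebraic_adjoin_of_quasiFinite (A := R) (B := L) y' (by
      letI := (MvPolynomial.aeval (R := R) y').toRingHom.toAlgebra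
      letI : Algebra (MvPolynomial (Fin (s + 1)) R) (MvPolynomial (ULift.{u} (Fin (s + 1))) R) :=
        (MvPolynomial.renameEquiv R Equiv.ulift.symm).toRingEquiv.toRingHom.toAlgebra
      haveI : IsScalarTower (MvPolynomial (Fin (s + 1)) R) (MvPolynomial (ULift.{u} (Fin (s + 1))) R) L := by
        refine IsScalarTower.of_algebraMap_eq fun f => ?_
        show MvPolynomial.aeval y f = MvPolynomial.aeval y' (MvPolynomial.rename Equiv.ulift.symm f)
        rw [MvPolynomial.aeval_rename]
        rfl
      exact Algebra.QuasiFinite.of_restrictScalars (MvPolynomial (Fin (s + 1)) R)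
        (MvPolynomial (ULift.{u} (Fin (s + 1))) R) L)
    haveI : Algebra.IsAlgebraic (Algebra.adjoin D (Set.range y')) L := ⟨fun z => by
      obtain ⟨f, hf0, hf⟩ := halg₀.isAlgebraic z
      have hle : ∀ w ∈ Algebra.adjoin R (Set.range y'), w ∈ Algebra.adjoin D (Set.range y') := fun w hw =>
        (Algebra.adjoin_le (S := (Algebra.adjoin D (Set.range y')).restrictScalars R)
          Algebra.subset_adjoin) hw
      let ρ : Algebra.adjoin R (Set.range y') →+* Algebra.adjoin D (Set.range y') :=
        ((Algebra.adjoin R (Set.range y')).val.toRingHom).codRestrict _ fun w => hle _ w.2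
      have hρ : Function.Injective ρ := fun v w h => Subtype.ext (show (ρ v).1 = (ρ w).1 by rw [h])
      refine ⟨f.map ρ, (Polynomial.map_ne_zero_iff hρ).2 hf0, ?_⟩
      rw [Polynomial.aeval_def, Polynomial.eval₂_map]
      exact hf⟩
    have hle : Algebra.trdeg D L ≤ (s + 1 : ℕ) :=
      (Algebra.IsAlgebraic.trdeg_le_cardinalMk D (Set.range y')).trans
        (Cardinal.mk_range_le.trans (by simp))
    have hge : ((d + 1 : ℕ) : Cardinal.{u}) ≤ Algebra.trdeg D L := by
      rw [← hadd]
      exact htr₁.trans le_add_self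
    refine ⟨hle.trans (Nat.cast_le.2 (by omega)), ?_⟩
    have hb := Algebra.IsAlgebraic.isTranscendenceBasis_of_le_trdeg_of_finite D y'
      (le_trans (le_trans (le_of_eq (by simp)) (Nat.cast_le.2 (show s + 1 ≤ d + 1 by omega))) hge)
    exact hb.1.comp (fun i => ULift.up i) ULift.up_injective
  refine ⟨L, inferInstance, D, inferInstance, inferInstance, inferInstance, Ideal.Quotient.mk p, ψ, Q,
    hR, rfl, ?_, fun s x hs hq => (key s x hs hq).2⟩
  obtain ⟨s, x, hs, -, hq⟩ := exists_quasiFiniteAt d a ha Q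
  obtain ⟨hle, -⟩ := key s x hs hq
  obtain ⟨t, ht⟩ := Cardinal.lt_aleph0.1 ((le_self_add.trans hadd.le).trans hle |>.trans_lt
    (Cardinal.natCast_lt_aleph0))
  obtain ⟨t₁, ht₁⟩ := Cardinal.lt_aleph0.1 ((le_add_self.trans hadd.le).trans hle |>.trans_lt
    (Cardinal.natCast_lt_aleph0))
  rw [← hadd, ht, ht₁, ← Nat.cast_add, Nat.cast_le] at hle
  rw [ht₁, Nat.cast_le] at htr₁
  have : Algebra.IsAlgebraic D D₁ := trdeg_eq_zero_iff.1 (by rw [ht, show t = 0 by omega, Nat.cast_zero])
  have hc := (this.isAlgebraic (Ideal.Quotient.mk _ (Polynomial.X : R[X]))).algHom (IsScalarTower.toAlgHom D D₁ L)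
  rwa [IsScalarTower.coe_toAlgHom', ← hX, show algebraMap R[X] S Polynomial.X = a ^ n + b from
    Polynomial.aeval_X _, map_add, map_pow] at hc

/-- **Stability of the fibre dimension bound under power perturbation.** -/
theorem exists_bound (d : ℕ) (a b : S)
    (ha : ∀ P : PrimeSpectrum R[X], letI := (Polynomial.aeval (R := R) a).toRingHom.toAlgebra
      ringKrullDim (P.asIdeal.Fiber S) ≤ d) :
    ∃ n₀ : ℕ, ∀ n ≥ n₀, ∀ P : PrimeSpectrum R[X],
      letI := (Polynomial.aeval (R := R) (a ^ n + b)).toRingHom.toAlgebra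
      ringKrullDim (P.asIdeal.Fiber S) ≤ d := by
  classical
  have hloc : ∀ q : PrimeSpectrum S, ∃ (U : Set (PrimeSpectrum S)) (N : ℕ), IsOpen U ∧ q ∈ U ∧
      ∀ (L : Type u) [Field L] (D : Type u) [CommRing D] [IsDomain D] [Algebra D L] (g : R →+* D)
        (ψ : S →+* L) (Q : PrimeSpectrum S) (n : ℕ), (∀ r, ψ (algebraMap R S r) = algebraMap D L (g r)) →
        RingHom.ker ψ = Q.asIdeal → IsAlgebraic D (ψ a ^ n + ψ b) →
        (∀ (s : ℕ) (x : Fin (s + 1) → S), s ≤ d →
          (QFAt (R := R) x Q) →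
          AlgebraicIndependent D fun i => ψ (x i)) → Q ∈ U → n ≤ N := by
    intro q
    obtain ⟨s, x, hs, hx0, hq⟩ := exists_quasiFiniteAt d a ha q
    letI := (MvPolynomial.aeval (R := R) x).toRingHom.toAlgebra
    haveI : IsScalarTower R (MvPolynomial (Fin (s + 1)) R) S :=
      IsScalarTower.of_algebraMap_eq fun r => ((MvPolynomial.aeval x).commutes r).symm
    haveI : Algebra.FiniteType (MvPolynomial (Fin (s + 1)) R) S := .of_restrictScalars_finiteType R _ _
    haveI := hq
    let P := MvPolynomial (Fin (s + 1)) R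
    obtain ⟨r, hr, hint⟩ := Algebra.zariskisMainProperty_iff'.1
      (Algebra.ZariskisMainProperty.of_finiteType (R := P) q.asIdeal)
    obtain ⟨m, hw⟩ := hint b
    obtain ⟨k, hk⟩ := hint r
    rw [← pow_succ] at hk
    have hrint : IsIntegral P r := (IsIntegral.pow_iff (by omega)).1 hk
    obtain ⟨Ψ, hΨ, hΨr⟩ := hrint
    let z : ℕ → S := fun i => Polynomial.eval₂ (algebraMap P S) r (Polynomial.divX^[i + 1] Ψ)
    have hz : ∀ i, IsIntegral P (z i) := fun i => by
      rw [← mem_integralClosure_iff]
      show Polynomial.aeval r (Polynomial.divX^[i + 1] Ψ) ∈ integralClosure P S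
      have : IsIntegral P r := ⟨Ψ, hΨ, hΨr⟩
      exact (show Polynomial.aeval r (Polynomial.divX^[i + 1] Ψ) =
        ((Polynomial.aeval (⟨r, this⟩ : integralClosure P S) (Polynomial.divX^[i + 1] Ψ)) : S) from
        (Polynomial.aeval_algHom_apply (integralClosure P S).val (⟨r, this⟩ : integralClosure P S) _)) ▸
        (Polynomial.aeval (⟨r, this⟩ : integralClosure P S) (Polynomial.divX^[i + 1] Ψ)).2
    have hu : ∀ i, IsIntegral P ((-z i) ^ m * (r ^ m * b)) := fun i => ((hz i).neg.pow m).mul hw
    choose Φ hΦ hΦ0 using hu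
    let bd : ℕ → ℕ := fun i => (Finset.range ((Φ i).natDegree + 1)).sup
      fun j => (MvPolynomial.finSuccEquiv R s ((Φ i).coeff j)).natDegree
    refine ⟨{Q | r ∉ Q.asIdeal} ∩ {Q | Algebra.QuasiFiniteAt P Q.asIdeal},
      (Finset.range Ψ.natDegree).sup bd,
      (PrimeSpectrum.basicOpen r).isOpen.inter (Groth.FibreDim.isOpen_setOf_quasiFiniteAt P S),
      ⟨hr, hq⟩, ?_⟩
    intro L _ D _ _ _ g ψ Q n hψ hker hc hind hQ
    obtain ⟨hrQ, hqfQ⟩ := hQ
    have hα := hind s x hs hqfQ
    let Ev : P →+* L := MvPolynomial.eval₂Hom ((algebraMap D L).comp g) fun i => ψ (x i)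
    have hEv : ∀ f, ψ (algebraMap P S f) = Ev f := fun f => by
      show ψ (MvPolynomial.aeval x f) = _
      rw [MvPolynomial.aeval_def, MvPolynomial.eval₂_comp_left ψ]
      congr 1
      exact RingHom.ext hψ
    have hψr : ψ r ≠ 0 := fun h0 => hrQ (hker ▸ h0)
    -- the relation for `r` gives a coefficient inverting it
    obtain ⟨i, hi, hγ, hzi⟩ : ∃ i, i < Ψ.natDegree ∧ Ev (Ψ.coeff i) ≠ 0 ∧
        ψ r * ψ (z i) = -Ev (Ψ.coeff i) := by
      let σ : ℕ → L := fun i => Polynomial.eval₂ Ev (ψ r) (Polynomial.divX^[i] Ψ)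
      have hσ : ∀ i, σ i = ψ r * σ (i + 1) + Ev (Ψ.coeff i) := by
        intro i
        simp only [σ]
        rw [Function.iterate_succ_apply']
        conv_lhs => rw [← Polynomial.X_mul_divX_add (Polynomial.divX^[i] Ψ)]
        rw [Polynomial.eval₂_add, Polynomial.eval₂_mul, Polynomial.eval₂_X, Polynomial.eval₂_C]
        congr 2
        have : ∀ (i : ℕ) (Φ : Polynomial P) (j : ℕ), (Polynomial.divX^[i] Φ).coeff j = Φ.coeff (j + i) := by
          intro i
          induction i with
          | zero => simp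
          | succ i ih =>
            intro Φ j
            rw [Function.iterate_succ_apply', Polynomial.coeff_divX, ih, add_assoc, add_comm 1 i]
        rw [this, zero_add]
      have hσ0 : σ 0 = 0 := by
        show Polynomial.eval₂ Ev (ψ r) Ψ = 0
        rw [show Ev = ψ.comp (algebraMap P S) from RingHom.ext fun f => (hEv f).symm,
          ← Polynomial.hom_eval₂, hΨr, map_zero]
      have hσN : σ Ψ.natDegree = 1 := by
        have h1 : Polynomial.divX^[Ψ.natDegree] Ψ = 1 := by
          have : ∀ (i : ℕ) (Φ : Polynomial P) (j : ℕ), (Polynomial.divX^[i] Φ).coeff j = Φ.coeff (j + i) := by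
            intro i
            induction i with
            | zero => simp
            | succ i ih =>
              intro Φ j
              rw [Function.iterate_succ_apply', Polynomial.coeff_divX, ih, add_assoc, add_comm 1 i]
          ext j
          rw [this, Polynomial.coeff_one]
          cases j with
          | zero => simp [hΨ.coeff_natDegree]
          | succ j => rw [if_neg (by omega), Polynomial.coeff_eq_zero_of_natDegree_lt (by omega)]
        simp only [σ, h1, Polynomial.eval₂_one]
      have hex : ∃ i, i < Ψ.natDegree ∧ Ev (Ψ.coeff i) ≠ 0 := by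
        by_contra hcon
        push Not at hcon
        have : ∀ i, i ≤ Ψ.natDegree → σ i = 0 := by
          intro i
          induction i with
          | zero => exact fun _ => hσ0
          | succ i ih =>
            intro hi
            have h2 := hσ i
            rw [ih (by omega), hcon i (by omega), add_zero, eq_comm] at h2
            exact (mul_eq_zero.1 h2).resolve_left hψr
        exact one_ne_zero (hσN.symm.trans (this _ le_rfl))
      have hmin := Nat.find_spec hex
      have hzero : ∀ j, j ≤ Nat.find hex → σ j = 0 := by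
        intro j
        induction j with
        | zero => exact fun _ => hσ0
        | succ j ih =>
          intro hj
          have h2 := hσ j
          have h3 : Ev (Ψ.coeff j) = 0 := by
            by_contra hne
            exact Nat.find_min hex (show j < Nat.find hex by omega) ⟨by omega, hne⟩
          rw [ih (by omega), h3, add_zero, eq_comm] at h2
          exact (mul_eq_zero.1 h2).resolve_left hψr
      refine ⟨Nat.find hex, hmin.1, hmin.2, ?_⟩
      have h2 := hσ (Nat.find hex)
      rw [hzero _ le_rfl, eq_comm, add_eq_zero_iff_eq_neg] at h2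
      refine Eq.trans ?_ h2
      congr 1
      have hEv' : Ev = ψ.comp (algebraMap P S) := RingHom.ext fun f => (hEv f).symm
      simp only [z, σ]
      rw [Polynomial.hom_eval₂]
      exact congrArg (fun φ => Polynomial.eval₂ φ (ψ r) _) hEv'.symm
    refine le_trans ?_ (Finset.le_sup (f := bd) (Finset.mem_range.2 hi))
    refine exponent_le g (fun i => ψ (x i)) hα n (ψ b) ?_ (Φ i) (hΦ i) (bd i) (fun j => ?_) (Ψ.coeff i ^ m) ?_ ?_
    · simpa [hx0] using hc
    · by_cases hj : j ≤ (Φ i).natDegree
      · exact Finset.le_sup (f := fun j => (MvPolynomial.finSuccEquiv R s ((Φ i).coeff j)).natDegree)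
          (Finset.mem_range.2 (by omega))
      · rw [Polynomial.coeff_eq_zero_of_natDegree_lt (by omega), map_zero, Polynomial.natDegree_zero]
        exact Nat.zero_le _
    · show Ev (Ψ.coeff i ^ m) ≠ 0
      rw [map_pow]
      exact pow_ne_zero _ hγ
    · show Polynomial.eval₂ Ev (Ev (Ψ.coeff i ^ m) * ψ b) (Φ i) = 0
      have h1 : Ev (Ψ.coeff i ^ m) * ψ b = ψ ((-z i) ^ m * (r ^ m * b)) := by
        rw [map_pow, ← neg_neg (Ev (Ψ.coeff i)), ← hzi]
        simp only [map_mul, map_pow, map_neg]
        ring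
      rw [h1, show Ev = ψ.comp (algebraMap P S) from RingHom.ext fun f => (hEv f).symm,
        ← Polynomial.hom_eval₂, hΦ0, map_zero]
  choose U N hUo hqU hN using hloc
  obtain ⟨t, ht⟩ := isCompact_univ.elim_finite_subcover U hUo fun q _ => Set.mem_iUnion.2 ⟨q, hqU q⟩
  refine ⟨t.sup N + 1, fun n hn P => ?_⟩
  by_contra hbad
  obtain ⟨L, _, D, _, _, _, g, ψ, Q, h1, h2, h3, h4⟩ := exists_bad d a b ha n P hbad
  obtain ⟨q, hq, hQ⟩ := Set.mem_iUnion₂.1 (ht (Set.mem_univ Q))
  have := (hN q L D g ψ Q n h1 h2 h3 h4 hQ).trans (Finset.le_sup (f := N) hq)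
  omega

end Groth.FlatMor2.PowerPerturb
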